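/-
Modules on finite disjoint open covers.
-/
import Groth.Agent.L21.Mod.Locality
import Groth.Agent.L18.AmpleGG
import Mathlib.AlgebraicGeometry.Modules.Sheaf

/-!
# A module on a disjoint union is the product of its restrictions

The direct image along the union is then the direct sum of the direct images from the pieces.
-/

set_option autoImplicit false
set_option linter.style.haveILetI false
set_option backward.isDefEq.respectTransparency.types false

universe u

open CategoryTheory CategoryTheory.Limits AlgebraicGeometry TopologicalSpace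

noncomputable section

namespace Groth.Agent.Translates

variable {P : Scheme.{u}} {A : Scheme.{u}} {ι : Type} [Finite ι] (s : ι → (A ⟶ P)) [∀ i, IsOpenImmersion (s i)]

/-- Restriction to a disjoint piece kills the direct image. -/
theorem isZero_restrict {i j : ι} (h : (s i).opensRange ⊓ (s j).opensRange = ⊥) (G : A.Modules) :
    IsZero ((Scheme.Modules.restrictFunctor (s j)).obj ((Scheme.Modules.pushforward (s i)).obj G)) := by
  rw [IsZero.iff_id_eq_zero]
  apply Scheme.Modules.hom_ext
  intro U
  ext x
  haveI : Subsingleton Γ(G, (s i) ⁻¹ᵁ ((s j) ''ᵁ U)) := Groth.L18.Ample.subsingleton_sections_bot G (by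
    ext z
    refine ⟨fun hz => ?_, fun hz => hz.elim⟩
    have : (s i) z ∈ ((s i).opensRange ⊓ (s j).opensRange : P.Opens) :=
      ⟨⟨z, rfl⟩, (s j).image_le_opensRange U hz⟩
    rw [h] at this
    exact this.elim)
  exact Subsingleton.elim (α := Γ(G, (s i) ⁻¹ᵁ ((s j) ''ᵁ U))) _ _

/-- A module is the product of its restrictions to a disjoint open cover. -/
theorem nonempty_iso_pi (hcov : ⨆ i, (s i).opensRange = ⊤)
    (hdis : ∀ i j, i ≠ j → (s i).opensRange ⊓ (s j).opensRange = ⊥) (F : P.Modules) :
    Nonempty (F ≅ ∏ᶜ fun i => (Scheme.Modules.pushforward (s i)).obj ((Scheme.Modules.restrictFunctor (s i)).obj F)) := by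
  let u := Pi.lift fun i => (Scheme.Modules.restrictAdjunction (s i)).unit.app F
  suffices IsIso u from ⟨asIso u⟩
  refine Groth.L21.Mod.isIso_of_restrict s (fun x => ?_) u fun j => ?_
  · obtain ⟨i, y, hy⟩ := Opens.mem_iSup.mp (hcov.symm ▸ Opens.mem_top x : x ∈ ⨆ i, (s i).opensRange)
    exact ⟨i, y, hy⟩
  let R := Scheme.Modules.restrictFunctor (s j)
  haveI : R.Additive := (Scheme.Modules.restrictAdjunction (s j)).left_adjoint_additive
  haveI : PreservesFiniteBiproducts R := Functor.preservesFiniteBiproductsOfAdditive R
  let G := fun i => (Scheme.Modules.pushforward (s i)).obj ((Scheme.Modules.restrictFunctor (s i)).obj F)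
  haveI := Fintype.ofFinite ι
  haveI : HasFiniteBiproducts P.Modules := HasFiniteBiproducts.of_hasFiniteProducts
  let e : R.obj (∏ᶜ G) ≅ R.obj (G j) :=
    { hom := R.map (Pi.π G j)
      inv := R.map (biproduct.ι G j ≫ (biproduct.isoProduct G).hom)
      hom_inv_id := by
        rw [← R.map_comp, ← R.map_id]
        have hk : ∀ i, i ≠ j → IsZero (R.obj (G i)) := fun i hi => isZero_restrict s (hdis i j hi) _
        have hid : R.map (𝟙 (⨁ G)) = R.map (biproduct.π G j ≫ biproduct.ι G j) := by
          rw [← biproduct.total (f := G), Functor.map_sum]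
          rw [Finset.sum_eq_single j]
          · intro i _ hi
            rw [R.map_comp]
            exact (congrArg (· ≫ R.map (biproduct.ι G i)) ((hk i hi).eq_of_tgt _ 0)).trans zero_comp
          · intro h; exact absurd (Finset.mem_univ j) h
        calc R.map (Pi.π G j ≫ biproduct.ι G j ≫ (biproduct.isoProduct G).hom)
            = R.map ((biproduct.isoProduct G).inv ≫ (biproduct.π G j ≫ biproduct.ι G j) ≫ (biproduct.isoProduct G).hom) := by
              simp
          _ = R.map ((biproduct.isoProduct G).inv ≫ 𝟙 _ ≫ (biproduct.isoProduct G).hom) := by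
              simp only [R.map_comp, hid]
          _ = _ := by rw [Category.id_comp, Iso.inv_hom_id, R.map_id]
      inv_hom_id := by
        rw [← R.map_comp, ← R.map_id]
        simp }
  have h1 : IsIso (R.map u ≫ e.hom) := by
    show IsIso (R.map u ≫ R.map (Pi.π G j))
    rw [← R.map_comp, show u ≫ Pi.π G j = (Scheme.Modules.restrictAdjunction (s j)).unit.app F from Pi.lift_π _ j]
    have := (Scheme.Modules.restrictAdjunction (s j)).left_triangle_components F
    haveI : IsIso (R.map ((Scheme.Modules.restrictAdjunction (s j)).unit.app F) ≫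
        (Scheme.Modules.restrictAdjunction (s j)).counit.app (R.obj F)) := by rw [this]; infer_instance
    exact IsIso.of_isIso_comp_right _ ((Scheme.Modules.restrictAdjunction (s j)).counit.app (R.obj F))
  haveI : IsIso e.hom := Iso.isIso_hom e
  exact IsIso.of_isIso_comp_right (R.map u) e.hom

/-- Direct images of a module on a disjoint union decompose. -/
theorem nonempty_pushforward_iso {Y : Scheme.{u}} (hcov : ⨆ i, (s i).opensRange = ⊤)
    (hdis : ∀ i j, i ≠ j → (s i).opensRange ⊓ (s j).opensRange = ⊥) (f : P ⟶ Y) (F : P.Modules) :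
    Nonempty ((Scheme.Modules.pushforward f).obj F ≅
      ∐ fun i => (Scheme.Modules.pushforward (s i ≫ f)).obj ((Scheme.Modules.pullback (s i)).obj F)) := by
  obtain ⟨e⟩ := nonempty_iso_pi s hcov hdis F
  haveI : HasFiniteBiproducts Y.Modules := HasFiniteBiproducts.of_hasFiniteProducts
  haveI := (Scheme.Modules.pullbackPushforwardAdjunction f).rightAdjoint_preservesLimits
  exact ⟨(Scheme.Modules.pushforward f).mapIso e ≪≫ PreservesProduct.iso (Scheme.Modules.pushforward f) _ ≪≫
    Pi.mapIso (fun i => (Scheme.Modules.pushforwardComp (s i) f).app _ ≪≫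
      (Scheme.Modules.pushforward (s i ≫ f)).mapIso ((Scheme.Modules.restrictFunctorIsoPullback (s i)).app F)) ≪≫
    (biproduct.isoProduct _).symm ≪≫ biproduct.isoCoproduct _⟩

end Groth.Agent.Translates
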