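/-
Pullback of a direct image along an etale isogeny.
-/
import Groth.Agent.L26.Translates.Sheaf
import Groth.Agent.L08.FlatHom
import Groth.Agent.L08.SubgroupObj
import Groth.Agent.L25.GrpDeriv
import Groth.Agent.L05.UnibranchEtale.Main
import Groth.Agent.L27.TopInv.Sections
import Groth.Agent.L26.AV.Isogeny
import Groth.Agent.S12131
import Groth.Agent.L16.CohSupport
import Groth.Agent.L04.FinLocFreeHom
import Mathlib.AlgebraicGeometry.AlgClosed.Basic

/-!
# The pullback of the direct image along an isogeny in characteristic zero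

It is the direct sum of the translates by the rational points of the kernel.
-/

set_option autoImplicit false
set_option linter.style.haveILetI false
set_option backward.isDefEq.respectTransparency.types false

universe u

open CategoryTheory CategoryTheory.Limits MonoidalCategory CartesianMonoidalCategory AlgebraicGeometry TopologicalSpace
open scoped MonObj

noncomputable section

namespace Groth.Agent.Translates

variable {k : Type u} [Field k] {A B : Over (Spec (CommRingCat.of k))} [GrpObj A] [GrpObj B]

/-- In characteristic zero a surjective homomorphism with finite kernel is etale. -/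
theorem etale_of_isogeny [CharZero k] [IsProper A.hom] [IsReduced B.left] [LocallyOfFiniteType B.hom]
    (π : A ⟶ B) [IsMonHom π] [IsFinite π.left] [Surjective π.left] : Etale π.left := by
  let N := pullback π η[B]
  let j : N ⟶ A := pullback.fst π η[B]
  have hN : IsPullback j (toUnit N) π η[B] := by
    rw [toUnit_unique (toUnit N) (pullback.snd π η[B])]
    exact IsPullback.of_hasPullback π η[B]
  haveI : Mono η[B] := (IsSplitMono.mk' ⟨toUnit B, toUnit_unique _ _⟩).mono
  haveI : Mono j := inferInstanceAs (Mono (pullback.fst π η[B]))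
  have hj : j ≫ π = 1 := hN.w.trans Hom.one_def.symm
  have hlift : ∀ {T : Over (Spec (CommRingCat.of k))} (f : T ⟶ A), f ≫ π = 1 → ∃ z : T ⟶ N, z ≫ j = f :=
    fun {T} f hf => ⟨pullback.lift f (toUnit T) (by rw [hf, Hom.one_def]), pullback.lift_fst _ _ _⟩
  obtain ⟨gN, -⟩ := Groth.L08.exists_grpObj_of_mono j
    (hlift η[A] (by rw [IsMonHom.one_hom, Hom.one_def, toUnit_unit, Category.id_comp]))
    (hlift _ (by rw [MonObj.mul_comp, Category.assoc, Category.assoc, hj, MonObj.comp_one, MonObj.comp_one,
      _root_.one_mul]))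
    (hlift _ (by rw [GrpObj.inv_comp, hj, inv_one]))
  letI := gN
  haveI : IsIso (𝟙_ (Over (Spec (CommRingCat.of k)))).hom := inferInstanceAs (IsIso (𝟙 _))
  haveI : IsFinite (toUnit N).left :=
    MorphismProperty.of_isPullback (hN.map (Over.forget _)) ‹IsFinite π.left›
  haveI : IsFinite N.hom := by
    rw [← Over.w (toUnit N)]
    infer_instance
  haveI : GrpObj (Over.mk N.hom) := gN
  haveI : Smooth N.hom := Groth.L25.GrpDeriv.smooth_of_charZero N.hom
  haveI : Smooth π.left := (Groth.L08.FlatHom.smooth_iff_kernel A B N π j hN).2 inferInstance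
  exact Groth.L05.UnibranchEtale.etale_of_smooth_of_locallyQuasiFinite π.left

/-- The pullback of a direct image along an etale isogeny is the sum of the translates. -/
theorem nonempty_iso [IsAlgClosed k] [IsProper A.hom] [LocallyOfFiniteType B.hom]
    (π : A ⟶ B) [IsMonHom π] [IsFinite π.left] [Etale π.left] (E : A.left.Modules) [Coh.IsQCoh E] :
    Nonempty ((Scheme.Modules.pullback π.left).obj ((Scheme.Modules.pushforward π.left).obj E) ≅
      ∐ fun a : {a : 𝟙_ (Over (Spec (CommRingCat.of k))) ⟶ A // a ≫ π = 1} =>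
        (Scheme.Modules.pullback (𝟙 A * (toUnit A ≫ a.1)).left).obj E) := by
  classical
  let I := {a : 𝟙_ (Over (Spec (CommRingCat.of k))) ⟶ A // a ≫ π = 1}
  let t : I → (A ⟶ A) := fun a => 𝟙 A * (toUnit A ≫ a.1)
  have ht : ∀ a, t a ≫ π = π := fun a => by
    rw [MonObj.mul_comp, Category.id_comp, Category.assoc, a.2, MonObj.comp_one, _root_.mul_one]
  let P := pullback π.left π.left
  haveI : Etale (pullback.snd π.left π.left) := MorphismProperty.pullback_snd _ _ ‹Etale π.left›
  let s : I → (A.left ⟶ P) := fun a => pullback.lift (t a).left (𝟙 _) (by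
    rw [← Over.comp_left, ht, Category.id_comp])
  haveI : ∀ a, IsOpenImmersion (s a) := fun a =>
    Groth.L27.TopInv.isOpenImmersion_section (pullback.snd π.left π.left) (s a) (pullback.lift_snd _ _ _)
  let g : P ⟶ Spec (CommRingCat.of k) := pullback.snd π.left π.left ≫ A.hom
  haveI : LocallyOfFiniteType g := inferInstanceAs (LocallyOfFiniteType (_ ≫ _))
  haveI : JacobsonSpace P := LocallyOfFiniteType.jacobsonSpace g
  haveI : JacobsonSpace A.left := LocallyOfFiniteType.jacobsonSpace A.hom
  have hsg : ∀ a, s a ≫ g = A.hom := fun a => by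
    show s a ≫ pullback.snd _ _ ≫ _ = _
    rw [← Category.assoc, pullback.lift_snd, Category.id_comp]
  have hpt : ∀ (y : 𝟙_ (Over (Spec (CommRingCat.of k))) ⟶ A) (a : I), y ≫ t a = y * a.1 := fun y a => by
    rw [MonObj.comp_mul, Category.comp_id, ← Category.assoc, toUnit_unique (y ≫ toUnit A) (𝟙 _), Category.id_comp]
  have hinter : ∀ a b : I, (((s a).opensRange ⊓ (s b).opensRange : P.Opens) : Set P).Nonempty → a = b := by
    intro a b hne
    obtain ⟨z, ⟨hza, hzb⟩, hz⟩ := nonempty_inter_closedPoints hne
      ((s a).opensRange ⊓ (s b).opensRange).2.isLocallyClosed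
    obtain ⟨x, rfl⟩ := hza
    obtain ⟨x', hx'⟩ := hzb
    have hx : x ∈ closedPoints A.left := by
      rw [mem_closedPoints_iff] at hz ⊢
      have := hz.preimage (s a).continuous
      rwa [← Set.image_singleton, (s a).isOpenEmbedding.injective.preimage_image] at this
    obtain ⟨q, hq⟩ := (pointEquivClosedPoint A.hom).surjective ⟨x, hx⟩
    have hq' : q.1 (IsLocalRing.closedPoint k) = x := congrArg Subtype.val hq
    have hxx : x' = x := by
      have h := congrArg (pullback.snd π.left π.left) hx'
      rwa [← Scheme.Hom.comp_apply, ← Scheme.Hom.comp_apply, pullback.lift_snd, pullback.lift_snd] at h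
    let y : 𝟙_ (Over (Spec (CommRingCat.of k))) ⟶ A := Over.homMk q.1 q.2
    have heq : q.1 ≫ (t a).left = q.1 ≫ (t b).left := by
      have h := congrArg (pullback.fst π.left π.left) hx'
      rw [← Scheme.Hom.comp_apply, ← Scheme.Hom.comp_apply, pullback.lift_fst, pullback.lift_fst, hxx] at h
      refine congrArg Subtype.val ((pointEquivClosedPoint A.hom).injective
        (a₁ := ⟨q.1 ≫ (t a).left, by rw [Category.assoc, Over.w]; exact q.2⟩)
        (a₂ := ⟨q.1 ≫ (t b).left, by rw [Category.assoc, Over.w]; exact q.2⟩) (Subtype.ext ?_))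
      show (t a).left (q.1 _) = (t b).left (q.1 _)
      rw [hq']
      exact h.symm
    have h2 : y ≫ t a = y ≫ t b := Over.OverMorphism.ext heq
    rw [hpt, hpt] at h2
    exact Subtype.ext (mul_left_cancel h2)
  have hcov : ⨆ a, (s a).opensRange = ⊤ := by
    by_contra hne
    have hne' : ((⨆ a, (s a).opensRange : P.Opens) : Set P)ᶜ.Nonempty := by
      rw [Set.nonempty_compl]
      exact fun h => hne (Opens.ext h)
    obtain ⟨z, hz, hzc⟩ := nonempty_inter_closedPoints hne'
      (⨆ a, (s a).opensRange).2.isClosed_compl.isLocallyClosed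
    obtain ⟨q, hq⟩ := (pointEquivClosedPoint g).surjective ⟨z, hzc⟩
    have hq' : q.1 (IsLocalRing.closedPoint k) = z := congrArg Subtype.val hq
    let y : 𝟙_ (Over (Spec (CommRingCat.of k))) ⟶ A := Over.homMk (q.1 ≫ pullback.snd π.left π.left)
      ((Category.assoc _ _ _).trans q.2)
    let x : 𝟙_ (Over (Spec (CommRingCat.of k))) ⟶ A := Over.homMk (q.1 ≫ pullback.fst π.left π.left) (by
      rw [← Over.w π, Category.assoc, pullback.condition_assoc, Over.w]
      exact q.2)
    have hxy : x ≫ π = y ≫ π := Over.OverMorphism.ext (by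
      show (q.1 ≫ _) ≫ π.left = (q.1 ≫ _) ≫ π.left
      rw [Category.assoc, Category.assoc, pullback.condition])
    let a : I := ⟨y⁻¹ * x, by rw [MonObj.mul_comp, GrpObj.inv_comp, hxy, inv_mul_cancel]⟩
    refine hz (Opens.mem_iSup.2 ⟨a, y.left (IsLocalRing.closedPoint k), ?_⟩)
    have hx : y ≫ t a = x := by rw [hpt, mul_inv_cancel_left]
    have : y.left ≫ s a = q.1 := by
      apply pullback.hom_ext
      · rw [Category.assoc, pullback.lift_fst, ← Over.comp_left, hx]
        rfl
      · rw [Category.assoc, pullback.lift_snd, Category.comp_id]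
        rfl
    rw [← Scheme.Hom.comp_apply]
    exact (congrArg (fun f : Spec (CommRingCat.of k) ⟶ P => f (IsLocalRing.closedPoint k)) this).trans hq'
  haveI : CompactSpace A.left := QuasiCompact.compactSpace_of_compactSpace A.hom
  haveI : CompactSpace P := QuasiCompact.compactSpace_of_compactSpace g
  obtain ⟨F, hF⟩ := isCompact_univ.elim_finite_subcover (fun a => ((s a).opensRange : Set P))
    (fun a => (s a).opensRange.2) (fun z _ => Set.mem_iUnion.2 (Opens.mem_iSup.1 (hcov.ge (Opens.mem_top z))))
  have hfin : Finite I := Finite.of_surjective (fun a : F => a.1) fun a => by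
    obtain ⟨q⟩ : Nonempty (𝟙_ (Over (Spec (CommRingCat.of k))) ⟶ A) := ⟨η[A]⟩
    obtain ⟨b, hb⟩ := Set.mem_iUnion.1 (hF (Set.mem_univ (s a (q.left (IsLocalRing.closedPoint k)))))
    obtain ⟨hbF, hb⟩ := Set.mem_iUnion.1 hb
    exact ⟨⟨b, hbF⟩, (hinter b a ⟨_, hb, _, rfl⟩)⟩
  haveI := hfin
  let e := Finite.equivFin I
  haveI hopen : ∀ i, IsOpenImmersion (s (e.symm i)) := fun i => inferInstance
  obtain ⟨eP⟩ := @nonempty_pushforward_iso P A.left (Fin (Nat.card I)) inferInstance (fun i => s (e.symm i)) hopen
    A.left (by rw [← hcov]; exact e.symm.surjective.iSup_comp fun a => (s a).opensRange)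
    (fun i j hij => by
      rw [← Opens.not_nonempty_iff_eq_bot]
      exact fun h => hij (e.symm.injective (hinter _ _ h)))
    (pullback.snd π.left π.left) ((Scheme.Modules.pullback (pullback.fst π.left π.left)).obj E)
  haveI := Groth.Agent.S12131.result π.left π.left (pullback.fst π.left π.left) (pullback.snd π.left π.left)
    (IsPullback.of_hasPullback _ _) E
  refine ⟨@asIso _ _ _ _ _ (Groth.Agent.S12131.result π.left π.left (pullback.fst π.left π.left)
    (pullback.snd π.left π.left) (IsPullback.of_hasPullback _ _) E) ≪≫ eP ≪≫ Sigma.whiskerEquiv e.symm fun i => ?_⟩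
  exact ((Scheme.Modules.pushforwardCongr (pullback.lift_snd _ _ _)).app _ ≪≫
    (Scheme.Modules.pushforwardId A.left).app _ ≪≫
    (Scheme.Modules.pullbackComp (s (e.symm i)) (pullback.fst π.left π.left)).app E ≪≫
    (Scheme.Modules.pullbackCongr (pullback.lift_fst _ _ _)).app E).symm

end Groth.Agent.Translates
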